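import Cfsg.Agent.H951.UF.Num
import Cfsg.Agent.H945.UF.PairU
import Cfsg.Agent.H437.Iso.TwD4
import Cfsg.Agent.H378.TwRows

/-!
# S3461, the row `³D₄(u)` in cross characteristic (helper951)

* `od_eq`: the primes `r ∣ mm q` have `od u r = 12`;
* `mm_dvd`: `mm q ∣ u⁴ - u² + 1`;
* `row_3D4`: `³D₄(u)` is not a `CandU p q`.
-/

set_option autoImplicit false
set_option linter.unusedSectionVars false

namespace Cfsg.Agent.H951.UF

open CoxeterSystem Subgroup Cfsg Cfsg.Lie Cfsg.Lie.ChevalleyDatum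
open Cfsg.Agent.ChevalleyStructure.CoxeterGeomTypes
open Cfsg.Agent.Nodes Cfsg.Agent.Nodes.RGDChev Cfsg.Agent.KFacts.RgdChevCoord Cfsg.Agent.BpExc.TorChev
open Cfsg.Agent.BpExc.TowChev
open Cfsg.Agent.H493.PGTorus Cfsg.Agent.H493.PGCyc Cfsg.Agent.H129.WData
open Cfsg.Agent.H564.NearTwo Cfsg.Agent.H94.PG
open Cfsg.Agent.H378.ExcAdj Cfsg.Agent.H378.TwAdj
open Cfsg.Agent.H378.TwRows
open Cfsg.Agent.H945.UF

universe v

section

variable {K : Type v} [Field K] [Fintype K] {u : ℕ} (hu : IsPrimePow u) (hK : Fintype.card K = u ^ 3)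
  {p q : ℕ} (h : CandU p q ↥(Lie.twistedD4 K u))

theorem castA {u : ℕ} (hu : 1 < u) : (((u ^ 3 - 1) * (u + 1) : ℕ) : ℤ) = ((u : ℤ) ^ 3 - 1) * (u + 1) := by
  have h3u : 1 < u ^ 3 := Nat.one_lt_pow (by norm_num) hu
  push_cast [h3u.le]; rfl

theorem castB {u : ℕ} (hu : 1 < u) : (((u ^ 3 + 1) * (u - 1) : ℕ) : ℤ) = ((u : ℤ) ^ 3 + 1) * (u - 1) := by
  push_cast [hu.le]; rfl

theorem castT {u : ℕ} (hu : 1 < u) : ((u ^ 4 - u ^ 2 + 1 : ℕ) : ℤ) = (u : ℤ) ^ 4 - u ^ 2 + 1 := by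
  have h3 : u ^ 2 ≤ u ^ 4 := Nat.pow_le_pow_right hu.le (by norm_num)
  push_cast [h3]; rfl

include hu hK h

open Cfsg.Agent.H493.PGD4T in
theorem od_eq {r : ℕ} (hr : r.Prime) (hrM : r ∣ mm q) : od u r = 12 := by
  have hadj : ¬ Adj ↥(twistedD4 K u) r 2 := h.not_adj hr hrM
  have hr2 : r ≠ 2 := (h.prime_facts hr hrM).1
  have hd : r ∣ Nat.card ↥(twistedD4 K u) := h.dvd_card hrM
  obtain ⟨v, n, hv, hn, hvn⟩ := id hu
  have hv := hv.nat_prime
  have hvu : v ∣ u := hvn ▸ dvd_pow_self v hn.ne'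
  have h1u : 1 < u := hu.one_lt
  rw [Cfsg.Agent.S1067.result hu hK] at hd
  have hAB : ∀ {N : ℕ}, (∃ x : ↥(twistedD4 K u), orderOf x = N) → 2 ∣ N → ¬ r ∣ N := by
    rintro N ⟨x, rfl⟩ h2 h3
    exact h.not_two_dvd hr hrM h3 h2
  have hA : ¬ 2 ∣ u → ¬ r ∣ (u ^ 3 - 1) * (u + 1) := fun h2 =>
    hAB (H437.Iso.d4_orderA hu hK) (Dvd.dvd.mul_left (by omega) _)
  have hB : ¬ 2 ∣ u → ¬ r ∣ (u ^ 3 + 1) * (u - 1) := fun h2 =>
    hAB (H437.Iso.d4_orderB hu hK) (Dvd.dvd.mul_left (by omega) _)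
  rcases cover hu.two_le hr hd with (h0 | h0 | h0 | h0 | h0) | h0
  · exfalso
    rw [← hvn] at h0
    have hrv : r = v := (Nat.prime_dvd_prime_iff_eq hr hv).1 (hr.dvd_of_dvd_pow h0)
    have h2q : ¬ 2 ∣ u := by
      rw [← hvn]
      intro h5
      exact hr2 (hrv.trans ((Nat.prime_dvd_prime_iff_eq Nat.prime_two hv).1 (Nat.prime_two.dvd_of_dvd_pow h5)).symm)
    apply hadj
    rw [hrv]
    exact ((pairD_p hu hK chainA_ok hThA eigA_1 (by decide) (by decide) fixA vanA_1 Nat.prime_two hv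
        (two_dvd_c1 h2q) hvu).adj Nat.prime_two hv (by rw [← hrv]; exact hr2.symm)).symm
  · exfalso
    by_cases h2q : 2 ∣ u
    · exact hadj ((pairD_p hu hK chainA_ok hThA eigA_1 (by decide) (by decide) fixA vanA_1 hr Nat.prime_two
        h0 h2q).adj hr Nat.prime_two hr2)
    · refine hA h2q (Int.natCast_dvd_natCast.1 ?_)
      rw [castA h1u]
      rw [pv_c1] at h0
      exact h0.trans ⟨((u : ℤ) ^ 2 + u + 1) * (u + 1), by ring⟩
  · exfalso
    by_cases h2q : 2 ∣ u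
    · exact hadj ((pairD_p hu hK chainB_ok hThB eigB_2 (by decide) (by decide) fixB vanB_2 hr Nat.prime_two
        h0 h2q).adj hr Nat.prime_two hr2)
    · refine hA h2q (Int.natCast_dvd_natCast.1 ?_)
      rw [castA h1u]
      rw [pv_c2] at h0
      exact h0.trans ⟨((u : ℤ) ^ 3 - 1), by ring⟩
  · exfalso
    by_cases h2q : 2 ∣ u
    · exact hadj ((pairD_p hu hK chainA_ok hThA eigA_3 (by decide) (by decide) fixA vanA_3 hr Nat.prime_two
        h0 h2q).adj hr Nat.prime_two hr2)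
    · refine hA h2q (Int.natCast_dvd_natCast.1 ?_)
      rw [castA h1u]
      rw [pv_c3] at h0
      exact h0.trans ⟨((u : ℤ) - 1) * (u + 1), by ring⟩
  · exfalso
    by_cases h2q : 2 ∣ u
    · exact hadj ((pairD_p hu hK chainB_ok hThB eigB_6 (by decide) (by decide) fixB vanB_6 hr Nat.prime_two
        h0 h2q).adj hr Nat.prime_two hr2)
    · refine hB h2q (Int.natCast_dvd_natCast.1 ?_)
      rw [castB h1u]
      rw [pv_c6] at h0
      exact h0.trans ⟨((u : ℤ) + 1) * (u - 1), by ring⟩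
  · exact od_of_c12 hr h0

theorem mm_dvd : mm q ∣ u ^ 4 - u ^ 2 + 1 := by
  obtain ⟨r, hr, hrM⟩ := h.exists_prime
  have h1 := od_eq hu hK h hr hrM
  have h4 := castT hu.one_lt
  obtain ⟨g, hg⟩ := h.elt'
  obtain ⟨k, hk⟩ := hrM
  have hn0 : 0 < mm q := h.mm_pos
  have hk0 : k ≠ 0 := by
    rintro rfl
    omega
  have hk' : mm q = r * k := hk
  have h1' : orderOf (g ^ k) = r := by
    rw [orderOf_pow_of_dvd hk0 (by rw [hg, hk']; exact dvd_mul_left _ _), hg, hk',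
      Nat.mul_div_cancel _ (Nat.pos_of_ne_zero hk0)]
  have h2 := (H378.TwRows.cent_3D4 hu hK hr h1' h1).2
  rw [H378.TwRows.eval_cyc12, ← h4, Int.natAbs_natCast] at h2
  have h3' : g ∈ Subgroup.centralizer {g ^ k} := by
    rw [Subgroup.mem_centralizer_singleton_iff]
    exact (Commute.self_pow g k).eq
  have h5 : orderOf (⟨g, h3'⟩ : ↥(Subgroup.centralizer {g ^ k})) ∣ Nat.card ↥(Subgroup.centralizer {g ^ k}) :=
    orderOf_dvd_natCard _
  rw [Subgroup.orderOf_mk, hg] at h5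
  exact h5.trans h2

/-- element orders dividing `u ^ 6 - 1` are prime to `mm q` -/
theorem coprime_of {N : ℕ} (hN : (N : ℤ) ∣ (u : ℤ) ^ 6 - 1) : Nat.Coprime N (mm q) := by
  rw [Nat.coprime_iff_gcd_eq_one]
  by_contra hc
  obtain ⟨r, hr, hd⟩ := Nat.exists_prime_and_dvd hc
  have h1 := od_eq hu hK h hr (hd.trans (Nat.gcd_dvd_right _ _))
  have h2 : (r : ℤ) ∣ (u : ℤ) ^ 6 - 1 := (Int.natCast_dvd_natCast.2 (hd.trans (Nat.gcd_dvd_left _ _))).trans hN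
  rw [H378.CycTab.dvd_iff] at h2
  rw [od] at h1
  rw [h1] at h2
  omega

theorem main : False := by
  have h1u : 1 < u := hu.one_lt
  have hq := h.q_ge
  obtain ⟨a, i, hTa, hai, hodd, ha, hi⟩ := h.tor (H437.Iso.d4_order12 hu hK) (mm_dvd hu hK h)
  have hT : 2 * ((u : ℤ) ^ 4 - u ^ 2 + 1) = a * ((q : ℤ) ^ 2 + 1) := by
    have h2 : ((2 * mm q : ℕ) : ℤ) = ((q ^ 2 + 1 : ℕ) : ℤ) := by rw [h.two_mm]
    have h3 := castT h1u
    rw [hTa] at h3
    push_cast at h2 h3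
    linear_combination (-2 : ℤ) * h3 + (a : ℤ) * h2
  have hu3 : (3 : ℤ) ≤ u := by
    by_contra hcon
    have hu2 : u = 2 := by omega
    subst hu2
    have h2 : (1 : ℤ) ≤ a := by exact_mod_cast ha
    have h3 : (7 : ℤ) ≤ q := by exact_mod_cast hq
    push_cast at hT
    nlinarith
  have hA4 : (4 : ℤ) * (((q ^ 3 + 1) / 4 : ℕ) : ℤ) = (q : ℤ) ^ 3 + 1 := by exact_mod_cast h.four_A
  have hqq : 1 ≤ q ^ 2 := Nat.one_le_pow _ _ (by omega)
  have hC : ((q ^ 2 - 1 : ℕ) : ℤ) = (q : ℤ) ^ 2 - 1 := by push_cast [hqq]; rfl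
  have hD4 : (4 : ℤ) * ((p * (q ^ 2 - 1) / 4 : ℕ) : ℤ) = p * ((q : ℤ) ^ 2 - 1) := by
    rw [← hC]; exact_mod_cast h.four_D
  have key : ∀ {N : ℕ} {n : ℤ}, (∃ x : ↥(twistedD4 K u), orderOf x = N) → (N : ℤ) = n → n ∣ (u : ℤ) ^ 6 - 1 →
      (4 * n ∣ (q : ℤ) ^ 3 + 1 ∨ n ∣ (q : ℤ) ^ 2 - 1 ∨ 4 * n ∣ p * ((q : ℤ) ^ 2 - 1) ∨ n ∣ p * ((q : ℤ) + 1)) := by
    intro N n hx hn hd
    subst hn
    rcases h.free hx (coprime_of hu hK h hd) with h5 | h5 | h5 | h5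
    · left
      rw [← hA4]
      exact mul_dvd_mul_left 4 (Int.natCast_dvd_natCast.2 h5)
    · right; left
      rw [← hC]
      exact Int.natCast_dvd_natCast.2 h5
    · right; right; left
      rw [← hD4]
      exact mul_dvd_mul_left 4 (Int.natCast_dvd_natCast.2 h5)
    · right; right; right
      exact_mod_cast Int.natCast_dvd_natCast.2 h5
  refine num (p := (p : ℤ)) (q := (q : ℤ)) hu3 (by exact_mod_cast hq) (by exact_mod_cast ha)
    (by exact_mod_cast hodd) hT (by exact_mod_cast h.hp.pos) (by exact_mod_cast h.p_cases)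
    (by exact_mod_cast Int.natCast_dvd_natCast.2 h.p_dvd) ?_
  rintro ε (rfl | rfl)
  · refine key (H437.Iso.d4_orderA hu hK) ?_ ⟨(u : ℤ) ^ 2 - u + 1, by ring⟩
    rw [castA h1u]; ring
  · refine key (H437.Iso.d4_orderB hu hK) ?_ ⟨(u : ℤ) ^ 2 + u + 1, by ring⟩
    rw [castB h1u]; ring

end

/-- **S3461, U8b**: `³D₄(u)` is not a section. -/
theorem row_3D4 {K : Type*} [Field K] [Fintype K] {u : ℕ} (hu : IsPrimePow u) (hK : Fintype.card K = u ^ 3)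
    {p q : ℕ} (_hpF : (p : K) ≠ 0) (h : CandU p q ↥(Lie.twistedD4 K u)) : False :=
  main hu hK h

end Cfsg.Agent.H951.UF
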