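import Mathlib

/-!
# S3461, row `³D₄(u)`: the numerical part
-/

set_option autoImplicit false

namespace Cfsg.Agent.H951.UF

section

variable {p q u a : ℤ} (hu : 3 ≤ u) (hq : 7 ≤ q) (ha : 1 ≤ a) (hodd : a % 2 = 1)
  (hT : 2 * (u ^ 4 - u ^ 2 + 1) = a * (q ^ 2 + 1))

include hu hq ha hT

omit hu hq in
theorem sq_le : q ^ 2 + 1 ≤ 2 * (u ^ 4 - u ^ 2 + 1) := by
  rw [hT]
  nlinarith [sq_nonneg q]

theorem two_q_lt : 2 * q < 3 * u ^ 2 := by
  have h1 := sq_le ha hT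
  by_contra h
  push Not at h
  have h3 : 0 ≤ 3 * u ^ 2 := by positivity
  have h4 : (3 * u ^ 2) * (3 * u ^ 2) ≤ (2 * q) * (2 * q) := mul_self_le_mul_self h3 h
  nlinarith [sq_nonneg u, sq_nonneg (u ^ 2)]

omit hq ha hT in
theorem fb_le {ε : ℤ} (hε : ε = 1 ∨ ε = -1) : u ^ 4 - u ^ 3 + u - 1 ≤ (u ^ 2 - 1) * (u ^ 2 + ε * u + 1) := by
  have h1 : 0 ≤ u ^ 2 - 1 := by nlinarith
  rcases hε with rfl | rfl
  · nlinarith [mul_nonneg h1 (by linarith : (0 : ℤ) ≤ u)]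
  · nlinarith

omit hq ha hT in
theorem f_pos {ε : ℤ} (hε : ε = 1 ∨ ε = -1) : 0 < (u ^ 2 - 1) * (u ^ 2 + ε * u + 1) := by
  have h1 := fb_le hu hε
  have h2 : 0 < u ^ 4 - u ^ 3 + u - 1 := by
    have : u ^ 4 - u ^ 3 + u - 1 = (u ^ 3 + 1) * (u - 1) := by ring
    rw [this]
    have : 0 < u ^ 3 := by positivity
    exact mul_pos (by linarith) (by linarith)
  linarith

include hodd

/-- not a divisor of `q² - 1` -/
theorem not_C {ε : ℤ} (hε : ε = 1 ∨ ε = -1) (hd : (u ^ 2 - 1) * (u ^ 2 + ε * u + 1) ∣ q ^ 2 - 1) : False := by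
  have hpos : 0 < q ^ 2 - 1 := by nlinarith
  rcases (by omega : a = 1 ∨ 3 ≤ a) with ha1 | ha3
  · subst ha1
    have e : q ^ 2 - 1 = (u ^ 2 - 1) * (2 * u ^ 2) := by linear_combination -hT
    rw [e] at hd
    have hne : u ^ 2 - 1 ≠ 0 := by nlinarith
    have h1 := (mul_dvd_mul_iff_left hne).1 hd
    have hcop : IsCoprime (u ^ 2 + ε * u + 1) (u ^ 2) := by
      apply IsCoprime.pow_right
      exact ⟨1, -(u + ε), by ring⟩
    have h2 := hcop.dvd_of_dvd_mul_right h1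
    have h3 := Int.le_of_dvd (by norm_num) h2
    rcases hε with rfl | rfl <;> nlinarith
  · have h1 := Int.le_of_dvd hpos hd
    have h2 := fb_le hu hε
    have h3 : 3 * (q ^ 2 + 1) ≤ 2 * (u ^ 4 - u ^ 2 + 1) := by
      rw [hT]
      nlinarith [sq_nonneg q]
    have h4 : 0 < u ^ 4 - 3 * u ^ 3 + 2 * u ^ 2 + 3 * u + 1 := by
      have : u ^ 4 - 3 * u ^ 3 + 2 * u ^ 2 + 3 * u + 1 = u ^ 3 * (u - 3) + 2 * u ^ 2 + 3 * u + 1 := by ring
      rw [this]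
      have : 0 ≤ u ^ 3 * (u - 3) := mul_nonneg (by positivity) (by linarith)
      positivity
    nlinarith

/-- not a divisor of `p (q + 1)` -/
theorem not_E (hp0 : 0 < p) (hpq : p = q ∨ 49 * p ≤ q) {ε : ℤ} (hε : ε = 1 ∨ ε = -1)
    (hd : (u ^ 2 - 1) * (u ^ 2 + ε * u + 1) ∣ p * (q + 1)) : False := by
  have h2q := two_q_lt hu hq ha hT
  have hsq := sq_le ha hT
  have hfb := fb_le hu hε
  have hfp := f_pos hu hε
  have u3 : 27 ≤ u ^ 3 := by nlinarith [sq_nonneg u, mul_self_nonneg (u - 3)]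
  have u43 : 3 * u ^ 3 ≤ u ^ 4 := by
    have : u ^ 4 = u * u ^ 3 := by ring
    rw [this]
    exact mul_le_mul_of_nonneg_right hu (by positivity)
  have u32 : 3 * u ^ 2 ≤ u ^ 3 := by
    have : u ^ 3 = u * u ^ 2 := by ring
    rw [this]
    exact mul_le_mul_of_nonneg_right hu (by positivity)
  have u2 : 3 * u ≤ u ^ 2 := by nlinarith
  have hle := Int.le_of_dvd (mul_pos hp0 (by linarith)) hd
  rcases hpq with hpq | hpq
  swap
  · -- `49 p ≤ q`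
    have h1 : 49 * (p * (q + 1)) ≤ q * (q + 1) := by
      have := mul_le_mul_of_nonneg_right hpq (by linarith : (0 : ℤ) ≤ q + 1)
      linarith
    have h3 : q * (q + 1) = q ^ 2 + q := by ring
    nlinarith
  · subst hpq
    have e : p * (p + 1) = p ^ 2 + p := by ring
    rw [e] at hd hle
    rcases (by omega : a = 1 ∨ 3 ≤ a) with ha1 | ha3
    · subst ha1
      have hq2 : p ^ 2 = 2 * u ^ 4 - 2 * u ^ 2 + 1 := by linarith
      obtain ⟨j, hj⟩ := hd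
      have hj0 : 0 < j := by
        by_contra h
        push Not at h
        have : (u ^ 2 - 1) * (u ^ 2 + ε * u + 1) * j ≤ 0 := mul_nonpos_of_nonneg_of_nonpos hfp.le h
        nlinarith
      rcases hε with rfl | rfl
      · have e2 : (u ^ 2 - 1) * (u ^ 2 + 1 * u + 1) = u ^ 4 + u ^ 3 - u - 1 := by ring
        rw [e2] at hj hfp
        rcases (by omega : j = 1 ∨ 2 ≤ j) with h1 | h1
        · subst h1
          nlinarith
        · have h3 : (u ^ 4 + u ^ 3 - u - 1) * 2 ≤ (u ^ 4 + u ^ 3 - u - 1) * j := mul_le_mul_of_nonneg_left h1 hfp.le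
          nlinarith
      · have e2 : (u ^ 2 - 1) * (u ^ 2 + -1 * u + 1) = u ^ 4 - u ^ 3 + u - 1 := by ring
        rw [e2] at hj hfp
        rcases (by omega : j ≤ 2 ∨ 3 ≤ j) with h1 | h1
        · have h3 : (u ^ 4 - u ^ 3 + u - 1) * j ≤ (u ^ 4 - u ^ 3 + u - 1) * 2 := mul_le_mul_of_nonneg_left h1 hfp.le
          nlinarith
        · have h3 : (u ^ 4 - u ^ 3 + u - 1) * 3 ≤ (u ^ 4 - u ^ 3 + u - 1) * j := mul_le_mul_of_nonneg_left h1 hfp.le
          have h4 : 0 < 2 * u ^ 4 - 6 * u ^ 3 + u ^ 2 + 6 * u - 8 := by nlinarith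
          nlinarith
    · have h3 : 3 * (p ^ 2 + 1) ≤ 2 * (u ^ 4 - u ^ 2 + 1) := by
        rw [hT]
        nlinarith [sq_nonneg p]
      have h4 : p < u ^ 2 := by
        by_contra h
        push Not at h
        have h5 : u ^ 2 * u ^ 2 ≤ p * p := mul_self_le_mul_self (by positivity) h
        nlinarith
      have h5 : 0 < u ^ 4 - 3 * u ^ 3 - u ^ 2 + 3 * u + 1 := by
        have : u ^ 4 - 3 * u ^ 3 - u ^ 2 + 3 * u + 1 = (u ^ 3 - u) * (u - 3) + 1 := by ring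
        rw [this]
        have : 0 ≤ (u ^ 3 - u) * (u - 3) := mul_nonneg (by nlinarith) (by linarith)
        linarith
      nlinarith

omit hodd in
/-- both divide -/
theorem both {X : ℤ} (hX : 0 < X) (hXq : X ≤ q ^ 3 + 1)
    (h1 : 4 * ((u ^ 2 - 1) * (u ^ 2 + 1 * u + 1)) ∣ X) (h3 : 4 * ((u ^ 2 - 1) * (u ^ 2 + (-1) * u + 1)) ∣ X) : False := by
  have h2q := two_q_lt hu hq ha hT
  have hsq := sq_le ha hT
  obtain ⟨y, hy⟩ : 4 * (u ^ 2 - 1) ∣ X := (Dvd.intro (u ^ 2 + 1 * u + 1) (by ring)).trans h1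
  have hne : 4 * (u ^ 2 - 1) ≠ 0 := by nlinarith
  rw [hy] at h1 h3
  have e1 : 4 * ((u ^ 2 - 1) * (u ^ 2 + 1 * u + 1)) = 4 * (u ^ 2 - 1) * (u ^ 2 + u + 1) := by ring
  have e3 : 4 * ((u ^ 2 - 1) * (u ^ 2 + (-1) * u + 1)) = 4 * (u ^ 2 - 1) * (u ^ 2 - u + 1) := by ring
  rw [e1] at h1
  rw [e3] at h3
  have h4 := (mul_dvd_mul_iff_left hne).1 h1
  have h5 := (mul_dvd_mul_iff_left hne).1 h3
  have hcop : IsCoprime (u ^ 2 + u + 1) (u ^ 2 - u + 1) := by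
    -- `(u² + u + 1) - (u² - u + 1) = 2 u`, `u² + u + 1` is odd
    have hc1 : IsCoprime (u ^ 2 + u + 1) (2 * u) := by
      apply IsCoprime.mul_right
      · obtain ⟨k, hk⟩ := Int.even_mul_succ_self u
        exact ⟨1, -k, by linear_combination hk⟩
      · exact ⟨1, -(u + 1), by ring⟩
    obtain ⟨s, t, hst⟩ := hc1
    exact ⟨s + t, -t, by linear_combination hst⟩
  have h6 := hcop.mul_dvd h4 h5
  have hy0 : 0 < y := by
    by_contra h
    push Not at h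
    have : 4 * (u ^ 2 - 1) * y ≤ 0 := mul_nonpos_of_nonneg_of_nonpos (by nlinarith) h
    linarith
  have h7 := Int.le_of_dvd hy0 h6
  have h8 : 4 * (u ^ 6 - 1) ≤ X := by
    rw [hy]
    have : 4 * (u ^ 6 - 1) = 4 * (u ^ 2 - 1) * ((u ^ 2 + u + 1) * (u ^ 2 - u + 1)) := by ring
    rw [this]
    exact mul_le_mul_of_nonneg_left h7 (by nlinarith)
  have h9 : q ^ 2 ≤ 2 * u ^ 4 := by nlinarith
  have h10 : q ^ 3 * 2 ≤ 6 * u ^ 6 := by
    calc q ^ 3 * 2 = q ^ 2 * (2 * q) := by ring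
      _ ≤ (2 * u ^ 4) * (3 * u ^ 2) := mul_le_mul h9 h2q.le (by linarith) (by positivity)
      _ = 6 * u ^ 6 := by ring
  have h11 : 27 * 27 ≤ u ^ 6 := by
    have h12 : 27 ≤ u ^ 3 := by nlinarith [sq_nonneg u, mul_self_nonneg (u - 3)]
    calc (27 : ℤ) * 27 ≤ u ^ 3 * u ^ 3 := mul_self_le_mul_self (by norm_num) h12
      _ = u ^ 6 := by ring
  linarith

omit hodd in
/-- the mixed case -/
theorem mixed (hpq : p ∣ q) (h1 : 4 * (u ^ 2 - 1) ∣ q ^ 3 + 1) (h3 : 4 * (u ^ 2 - 1) ∣ p * (q ^ 2 - 1)) : False := by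
  have h2q := two_q_lt hu hq ha hT
  have hcop : IsCoprime (4 * (u ^ 2 - 1)) p := by
    have h4 : IsCoprime (q ^ 3 + 1) q := ⟨1, -q ^ 2, by ring⟩
    exact (h4.of_isCoprime_of_dvd_left h1).of_isCoprime_of_dvd_right hpq
  have h5 := hcop.dvd_of_dvd_mul_left h3
  have h6 : 4 * (u ^ 2 - 1) ∣ q + 1 := by
    have : q + 1 = (q ^ 3 + 1) - q * (q ^ 2 - 1) := by ring
    rw [this]
    exact dvd_sub h1 (h5.mul_left q)
  have h7 := Int.le_of_dvd (by linarith) h6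
  nlinarith

/-- **The numerical part.** -/
theorem num (hp0 : 0 < p) (hpq : p = q ∨ 49 * p ≤ q) (hpd : p ∣ q)
    (hF : ∀ ε : ℤ, ε = 1 ∨ ε = -1 → 4 * ((u ^ 2 - 1) * (u ^ 2 + ε * u + 1)) ∣ q ^ 3 + 1 ∨
      (u ^ 2 - 1) * (u ^ 2 + ε * u + 1) ∣ q ^ 2 - 1 ∨ 4 * ((u ^ 2 - 1) * (u ^ 2 + ε * u + 1)) ∣ p * (q ^ 2 - 1) ∨
      (u ^ 2 - 1) * (u ^ 2 + ε * u + 1) ∣ p * (q + 1)) : False := by
  have hpq' : p ≤ q := by rcases hpq with h | h <;> linarith
  have hA0 : 0 < q ^ 3 + 1 := by positivity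
  have hD0 : 0 < p * (q ^ 2 - 1) := mul_pos hp0 (by nlinarith)
  have hDq : p * (q ^ 2 - 1) ≤ q ^ 3 + 1 := by
    have h1 : p * (q ^ 2 - 1) ≤ q * (q ^ 2 - 1) := mul_le_mul_of_nonneg_right hpq' (by nlinarith)
    have h2 : q * (q ^ 2 - 1) = q ^ 3 - q := by ring
    linarith
  have key : ∀ {ε : ℤ} {X : ℤ}, 4 * ((u ^ 2 - 1) * (u ^ 2 + ε * u + 1)) ∣ X → 4 * (u ^ 2 - 1) ∣ X :=
    fun {ε X} h => (Dvd.intro (u ^ 2 + ε * u + 1) (by ring)).trans h
  have h1 := hF 1 (Or.inl rfl)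
  have h2 := hF (-1) (Or.inr rfl)
  rcases h1 with h1 | h1 | h1 | h1
  · rcases h2 with h2 | h2 | h2 | h2
    · exact both hu hq ha hT hA0 le_rfl h1 h2
    · exact not_C hu hq ha hodd hT (Or.inr rfl) h2
    · exact mixed hu hq ha hT hpd (key h1) (key h2)
    · exact not_E hu hq ha hodd hT hp0 hpq (Or.inr rfl) h2
  · exact not_C hu hq ha hodd hT (Or.inl rfl) h1
  · rcases h2 with h2 | h2 | h2 | h2
    · exact mixed hu hq ha hT hpd (key h2) (key h1)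
    · exact not_C hu hq ha hodd hT (Or.inr rfl) h2
    · exact both hu hq ha hT hD0 hDq h1 h2
    · exact not_E hu hq ha hodd hT hp0 hpq (Or.inr rfl) h2
  · exact not_E hu hq ha hodd hT hp0 hpq (Or.inl rfl) h1

end

end Cfsg.Agent.H951.UF
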